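import Groth.Agent.FlatMorAssOpen.FlatSpec
import Groth.Agent.EGA43.Chevalley.DimBounds
import Groth.Agent.FlatMorDim.Semicont

/-! Fibres of the closure of a point as subspaces. -/

set_option autoImplicit false
set_option backward.isDefEq.respectTransparency false

universe u

open CategoryTheory AlgebraicGeometry TopologicalSpace Topology
open Groth.Agent Groth.Agent.EGA43

namespace Groth.Agent.FlatMorAssOpen

theorem localDim_homeomorph {A B : Type*} [TopologicalSpace A] [TopologicalSpace B] (e : A ≃ₜ B) (a : A) :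
    FlatMor.localDim A a = FlatMor.localDim B (e a) := by
  have h : ∀ (V : Opens B) (W : Opens A), (W : Set A) = e ⁻¹' (V : Set B) →
      topologicalKrullDim (W : Set A) = topologicalKrullDim (V : Set B) := fun V W hW => by
    have := IsHomeomorph.topologicalKrullDim_eq _
      ((Homeomorph.setCongr hW).trans (e.sets (s := e ⁻¹' (V : Set B)) rfl)).isHomeomorph
    exact this
  refine le_antisymm (le_iInf fun V => ?_) (le_iInf fun W => ?_)
  · refine iInf_le_of_le ⟨⟨e ⁻¹' (V.1 : Set B), V.1.2.preimage e.continuous⟩, V.2⟩ (h V.1 _ rfl).le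
  · refine iInf_le_of_le ⟨⟨e '' (W.1 : Set A), e.isOpenMap _ W.1.2⟩, ⟨a, W.2, rfl⟩⟩ (h _ W.1 ?_).ge
    exact (e.preimage_image _).symm

theorem eq_of_isGenericPoint {X : Type*} [TopologicalSpace X] [T0Space X] {W : Set X} {x : X} (hx : x ∈ W)
    (hgen : ∃ C ∈ irreducibleComponents ↑W, IsGenericPoint (⟨x, hx⟩ : ↑W) C) {z : X} (hz : z ∈ W)
    (hsp : z ⤳ x) : z = x := by
  obtain ⟨C, hC, hxC⟩ := hgen
  have hsp' : (⟨z, hz⟩ : ↑W) ⤳ ⟨x, hx⟩ := (subtype_specializes_iff _ _).2 hsp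
  have hle : C ⊆ closure {(⟨z, hz⟩ : ↑W)} := by
    rw [← hxC.def]
    exact closure_minimal (Set.singleton_subset_iff.2 hsp'.mem_closure) isClosed_closure
  have hz' : IsGenericPoint (⟨z, hz⟩ : ↑W) C :=
    (hC.eq_of_le isIrreducible_singleton.closure hle).symm
  exact congrArg Subtype.val (hz'.eq hxC)

/-- At a point maximal in its fibre of the closure of `y`, the transcendence degree is not smaller. -/
theorem trd_le_of_maximal {X S : Scheme.{u}} (f : X ⟶ S) [LocallyOfFiniteType f] (y x : X)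
    (hx : x ∈ closure ({y} : Set X))
    (hmax : ∀ z ∈ closure ({y} : Set X), f z = f x → z ⤳ x → z = x) :
    DimLib.trdegHom (f.residueFieldMap y).hom ≤ DimLib.trdegHom (f.residueFieldMap x).hom := by
  let Z : Closeds X := ⟨closure {y}, isClosed_closure⟩
  let i := (Scheme.IdealSheafData.vanishingIdeal Z).subschemeι
  have hr : Set.range i = closure {y} := by
    rw [Scheme.IdealSheafData.range_subschemeι, Scheme.IdealSheafData.coe_support_vanishingIdeal]
    rfl
  let h := i ≫ f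
  obtain ⟨y₀, hy₀⟩ : y ∈ Set.range i := hr.ge (subset_closure rfl)
  obtain ⟨x₀, hx₀⟩ : x ∈ Set.range i := hr.ge hx
  have hgen₀ : y₀ ⤳ x₀ := by
    rw [← i.isClosedEmbedding.isEmbedding.isInducing.specializes_iff, hy₀, hx₀]
    exact specializes_iff_mem_closure.2 hx
  have htrd : ∀ w, DimLib.trdegHom (h.residueFieldMap w).hom = DimLib.trdegHom (f.residueFieldMap (i w)).hom :=
    fun w => Chevalley.trdegHom_residueFieldMap_comp i f w
  obtain ⟨z, hz, hzs, -, hzd⟩ := Chevalley.exists_maximal_fibreDimAt h x₀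
  have hzx : i z = x := hmax _ (hr.le ⟨z, rfl⟩) (hzs.trans (congrArg f hx₀)) (hx₀ ▸ hz.map i.continuous)
  rw [htrd, hzx] at hzd
  have hy := hgen₀.mem_open (FlatMorDim.isOpen_fibreDimAt_le h _) hzd.le
  have := FlatMorDim.trdegHom_le_of_fibreDimAt_le h y₀ _ hy
  rwa [htrd, hy₀] at this

theorem closure_fibre {X S : Scheme.{u}} (f : X ⟶ S) [LocallyOfFiniteType f] (y : X) (s : S) (x : X)
    (hx : x ∈ closure ({y} : Set X)) (hxs : f x = s)
    (hgen : ∃ C ∈ irreducibleComponents ↑(closure ({y} : Set X) ∩ f ⁻¹' {s}),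
      IsGenericPoint (⟨x, hx, hxs⟩ : ↑(closure ({y} : Set X) ∩ f ⁻¹' {s})) C) :
    DimLib.trdegHom (f.residueFieldMap y).hom ≤ DimLib.trdegHom (f.residueFieldMap x).hom ∧
    FlatMor.localDim ↑(closure ({y} : Set X) ∩ f ⁻¹' {s}) ⟨x, hx, hxs⟩ =
      (DimLib.trdegHom (f.residueFieldMap x).hom : WithBot ℕ∞) ∧
    topologicalKrullDim ↑(closure ({y} : Set X) ∩ f ⁻¹' {f y}) =
      (DimLib.trdegHom (f.residueFieldMap y).hom : WithBot ℕ∞) := by
  let Z : Closeds X := ⟨closure {y}, isClosed_closure⟩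
  let i := (Scheme.IdealSheafData.vanishingIdeal Z).subschemeι
  have hr : Set.range i = closure {y} := by
    rw [Scheme.IdealSheafData.range_subschemeι, Scheme.IdealSheafData.coe_support_vanishingIdeal]
    rfl
  let h := i ≫ f
  obtain ⟨y₀, hy₀⟩ : y ∈ Set.range i := hr.ge (subset_closure rfl)
  obtain ⟨x₀, hx₀⟩ : x ∈ Set.range i := hr.ge hx
  have hgen₀ : ∀ z, y₀ ⤳ z := fun z => by
    rw [← i.isClosedEmbedding.isEmbedding.isInducing.specializes_iff, hy₀]
    exact specializes_iff_mem_closure.2 (hr.le ⟨z, rfl⟩)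
  have htrd : ∀ w, DimLib.trdegHom (h.residueFieldMap w).hom = DimLib.trdegHom (f.residueFieldMap (i w)).hom :=
    fun w => Chevalley.trdegHom_residueFieldMap_comp i f w
  have hfib : ∀ t, ∃ e : h.fiber t ≃ₜ ↑(closure ({y} : Set X) ∩ f ⁻¹' {t}),
      ∀ z, (e z : X) = i (h.fiberι t z) := fun t => by
    have hem : IsEmbedding (fun z => i (h.fiberι t z)) :=
      i.isClosedEmbedding.isEmbedding.comp (h.fiberι t).isEmbedding
    have hrange : Set.range (fun z => i (h.fiberι t z)) = closure ({y} : Set X) ∩ f ⁻¹' {t} := by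
      rw [show (fun z => i (h.fiberι t z)) = i ∘ h.fiberι t from rfl, Set.range_comp, h.range_fiberι, ← hr,
        show h ⁻¹' {t} = i ⁻¹' (f ⁻¹' {t}) from rfl, Set.image_preimage_eq_range_inter]
    exact ⟨hem.toHomeomorph.trans (Homeomorph.setCongr hrange), fun z => rfl⟩
  have hhx : h x₀ = s := by show f (i x₀) = s; rw [hx₀, hxs]
  have hxmax : ∀ z, z ⤳ x₀ → h z = h x₀ → z = x₀ := fun z hz hzs => by
    obtain ⟨C, hC, hxC⟩ := hgen
    have hzm : i z ∈ closure ({y} : Set X) ∩ f ⁻¹' {s} :=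
      ⟨hr.le ⟨z, rfl⟩, hzs.trans hhx⟩
    have hsp : (⟨i z, hzm⟩ : ↑(closure ({y} : Set X) ∩ f ⁻¹' {s})) ⤳ ⟨x, hx, hxs⟩ := by
      rw [subtype_specializes_iff]
      exact hx₀ ▸ hz.map i.continuous
    have hle : C ⊆ closure {(⟨i z, hzm⟩ : ↑(closure ({y} : Set X) ∩ f ⁻¹' {s}))} := by
      rw [← hxC.def]
      exact closure_minimal (Set.singleton_subset_iff.2 hsp.mem_closure) isClosed_closure
    have hz' : IsGenericPoint (⟨i z, hzm⟩ : ↑(closure ({y} : Set X) ∩ f ⁻¹' {s})) C :=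
      (hC.eq_of_le isIrreducible_singleton.closure hle).symm
    exact i.isClosedEmbedding.injective ((congrArg Subtype.val (hz'.eq hxC)).trans hx₀.symm)
  have hdim : FlatMor.fibreDimAt h x₀ = (DimLib.trdegHom (f.residueFieldMap x).hom : WithBot ℕ∞) := by
    obtain ⟨z, hz, hzs, -, hzd⟩ := Chevalley.exists_maximal_fibreDimAt h x₀
    obtain rfl := hxmax z hz hzs
    rw [hzd, htrd, hx₀]
  refine ⟨?_, ?_, ?_⟩
  · have hy := (hgen₀ x₀).mem_open (FlatMorDim.isOpen_fibreDimAt_le h _) hdim.le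
    have := FlatMorDim.trdegHom_le_of_fibreDimAt_le h y₀ _ hy
    rwa [htrd, hy₀] at this
  · obtain ⟨e, he⟩ := hfib s
    rw [← hdim]
    obtain ⟨z, hz⟩ : x₀ ∈ Set.range (h.fiberι s) := by rw [h.range_fiberι]; exact hhx
    have hez : e z = ⟨x, hx, hxs⟩ := Subtype.ext (by rw [he, hz, hx₀])
    rw [← hez, ← localDim_homeomorph]
    show _ = FlatMor.localDim (h.fiber (h x₀)) (h.asFiber x₀)
    clear hez he e hxmax hdim
    subst hhx
    exact congrArg _ ((h.fiberι (h x₀)).isEmbedding.injective (hz.trans (h.fiberι_asFiber x₀).symm))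
  · obtain ⟨e, he⟩ := hfib (f y)
    rw [← IsHomeomorph.topologicalKrullDim_eq _ e.isHomeomorph, ← hy₀, ← htrd]
    have hhy : h y₀ = f (i y₀) := rfl
    refine le_antisymm ((FlatMorDim.fiber_dim_le_iff h _ _).2 fun w hw => ?_)
      ((Chevalley.le_fiber_dim_iff h _ _).2 ⟨y₀, hhy, le_rfl⟩)
    exact Chevalley.trdegHom_le_of_specializes h (hgen₀ w) (hhy.trans hw.symm)

end Groth.Agent.FlatMorAssOpen
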