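import Groth.Agent.H8Coh.FibreAssSpread
import Groth.Agent.FlatMor12.RelAssBC
import Groth.Agent.FlatMorDim.Semicont
import Groth.Agent.EGA43.Chevalley.Tfae

/-! The points over which the associated points of the fibre lie in a constructible set. -/

set_option autoImplicit false
set_option maxHeartbeats 800000
set_option backward.isDefEq.respectTransparency false

universe u

open CategoryTheory AlgebraicGeometry Topology
open Groth.Agent.EGA43 Groth.Agent.EGA43.FibDepth
open Groth.Agent.H8Coh.FibreAssSpread Groth.Agent.H8Coh.ComponentDims Groth.Agent.H8Coh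

namespace Groth.Agent.FlatMorAssOpen

variable {X S : Scheme.{u}} (f : X ⟶ S) (F : X.Modules)

theorem mem_relAss_iff [LocallyOfFiniteType f] (s : S) (z : f.fiber s) :
    f.fiberι s z ∈ MoreMor.relAss f F ↔
      z ∈ AssSch.Ass ((Scheme.Modules.pullback (f.fiberι s)).obj F) := by
  have := FlatMor12.RelAssBC.isLocallyNoetherian_fiber f s
  rw [FlatMor12.RelAssBC.mem_relAss_fiberι_iff f F s z]
  exact (FlatMor12.RelAssBC.isAssociatedPrime_iff_hasSoc (O := (f.fiber s).presheaf.stalk z)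
    (A := (f.fiber s).presheaf.stalk z)
    (N := ((Scheme.Modules.pullback (f.fiberι s)).obj F).presheaf.stalk z) Function.surjective_id).symm

theorem forall_relAss_iff [LocallyOfFiniteType f] (s : S) (C : Set X) :
    (∀ x ∈ MoreMor.relAss f F, f x = s → x ∈ C) ↔
      ∀ z ∈ AssSch.Ass ((Scheme.Modules.pullback (f.fiberι s)).obj F), f.fiberι s z ∈ C := by
  constructor
  · exact fun h z hz => h _ ((mem_relAss_iff f F s z).2 hz) ((f.range_fiberι s).le ⟨z, rfl⟩)
  · intro h x hx hfx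
    obtain ⟨z, rfl⟩ := (f.range_fiberι s).ge (show x ∈ f ⁻¹' {s} from hfx)
    exact h z ((mem_relAss_iff f F s z).1 hx)

theorem exists_dimPt_le [LocallyOfFiniteType f] [QuasiCompact f] {V : S.Opens} (hV : IsAffineOpen V) :
    ∃ N : ℕ, ∀ (s : S) (z : f.fiber s), s ∈ V → ComponentDims.dimPt f s z ≤ N := by
  classical
  have hc : IsCompact ((f ⁻¹ᵁ V : X.Opens) : Set X) :=
    f.isCompact_preimage hV.isCompact
  let O : ℕ → Set X := fun n => {x | FlatMor.fibreDimAt f x ≤ (n : WithBot ℕ∞)}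
  obtain ⟨t, ht⟩ := hc.elim_finite_subcover O (FlatMorDim.isOpen_fibreDimAt_le f) fun x _ => by
    obtain ⟨z, -, -, -, hz⟩ := EGA43.Chevalley.exists_maximal_fibreDimAt f x
    exact Set.mem_iUnion.2 ⟨_, hz.le⟩
  refine ⟨t.sup id, fun s z hs => ?_⟩
  have hfs : f (f.fiberι s z) = s := (f.range_fiberι s).le ⟨z, rfl⟩
  obtain ⟨n, hn, hxn⟩ := Set.mem_iUnion₂.1 (ht (show f.fiberι s z ∈ f ⁻¹ᵁ V by
    rw [Scheme.Hom.mem_preimage, hfs]; exact hs))
  have h1 := FlatMorDim.trdegHom_le_of_fibreDimAt_le f (f.fiberι s z) n hxn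
  have h2 : ComponentDims.dimPt f s z =
      DimLib.trdegHom (f.residueFieldMap (f.fiberι s z)).hom := ptDim_fiber f s z
  rw [h2]
  exact h1.trans (Finset.le_sup (f := id) hn)

theorem isLocallyConstructible_setOf [LocallyOfFinitePresentation f] [QuasiCompact f]
    (hF : CohB1.IsFP F) (C : Set X) (hC : IsLocallyConstructible C) :
    IsLocallyConstructible {s : S | ∀ x ∈ MoreMor.relAss f F, f x = s → x ∈ C} := by
  classical
  let D : ℕ → Set X := fun m => {x | x ∉ C ∧ ¬ AssDimP f F {m}ᶜ (f x) (f.asFiber x)}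
  let G : ℕ → Set S := fun m => {s | ∀ z, ¬ GeP f (D m) m s z}
  have hD : ∀ m, IsLocallyConstructible (D m) := fun m =>
    (Cons.isLocallyConstructible_compl hC).inter
      (Cons.isLocallyConstructible_compl (FibreAss.isLocallyConstructible_loci f F hF {m}ᶜ).2.1)
  have hG : ∀ m, IsLocallyConstructible (G m) := fun m =>
    FibreAss.isLocallyConstructible_forall f (fun s z => ¬ GeP f (D m) m s z)
      (Cons.isLocallyConstructible_compl (isLocallyConstructible_geP f (D m) (hD m) m))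
  have hmem : ∀ (m : ℕ) (s : S) (z : f.fiber s), f.fiberι s z ∈ D m ↔
      f.fiberι s z ∉ C ∧ ¬ AssDimP f F {m}ᶜ s z := fun m s z =>
    and_congr Iff.rfl (not_congr (EGA43.FibDepth.fiber_pred_iff f (fun s z => AssDimP f F {m}ᶜ s z) s z).symm)
  refine Cons.isLocallyConstructible_of_forall_fromSpec fun s₀ => ?_
  obtain ⟨V, hV, hsV, -⟩ := exists_isAffineOpen_mem_and_subset (x := s₀) (U := ⊤) trivial
  refine ⟨V, hV, hsV, ?_⟩
  obtain ⟨N, hN⟩ := exists_dimPt_le f hV
  have hfin : IsLocallyConstructible (⋂ m ∈ Finset.range (N + 1), G m) :=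
    FibreAss.isLocallyConstructible_biInter _ fun m _ => hG m
  convert Cons.isConstructible_preimage_fromSpec hfin hV using 1
  ext p
  have hpV : hV.fromSpec p ∈ V := hV.range_fromSpec.le ⟨p, rfl⟩
  simp only [Set.mem_preimage, Set.mem_iInter, G, Set.mem_ofPred_eq, forall_relAss_iff f F]
  constructor
  · rintro h m _ z ⟨z', -, hz', hd⟩
    obtain ⟨hzC, hA⟩ := (hmem _ _ _).1 hz'
    obtain ⟨a, ha, haz, had⟩ := (exists_ass_dim_iff f F m _ z').1 hA
    obtain rfl := eq_of_dimPt_le f haz (had.trans_le hd)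
    exact hzC (h a ha)
  · intro h a ha
    by_contra haC
    exact h _ (Finset.mem_range.2 (Nat.lt_succ_of_le (hN _ a hpV))) a
      ⟨a, specializes_rfl, (hmem _ _ _).2 ⟨haC,
        (exists_ass_dim_iff f F _ _ a).2 ⟨a, ha, specializes_rfl, rfl⟩⟩, le_rfl⟩

end Groth.Agent.FlatMorAssOpen
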