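import Groth.Agent.FlatMorAssOpen.Cons
import Groth.Agent.FlatMorDevissage.FPFlat
import Groth.Agent.FlatMorStrata.BaseChange
import Groth.Agent.EGA43.FibDepth.LociScheme
import Groth.Agent.Props12.KerReduced
import Groth.Agent.FlatMor12.IsoLocusMod
import Groth.Agent.EGA43.Chevalley.ConditionT
import Groth.Agent.H8Lim.ModEq

/-! Flatness at a specialisation of a relative associated point. -/

set_option autoImplicit false
set_option maxHeartbeats 1000000
set_option backward.isDefEq.respectTransparency false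

universe u

open CategoryTheory CategoryTheory.Limits AlgebraicGeometry TopologicalSpace
open Groth.Agent Groth.Agent.EGA43 Groth.Agent.EGA43.FibDepth

namespace Groth.Agent.FlatMorAssOpen

variable {X S : Scheme.{u}}

/-- Flatness at a specialisation of a relative associated point of no smaller dimension, integral base. -/
theorem relAss_of_specializes_of_isIntegral [IsIntegral S] (f : X ⟶ S) [LocallyOfFiniteType f]
    (F : X.Modules) [Coh.IsQCoh F] (hF : CohB1.IsFT F) {x y : X} (hyx : y ⤳ x)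
    (hfl : FlatMod.IsFlatOverAt f F x) (hy : y ∈ MoreMor.relAss f F)
    (hd : DimLib.trdegHom (f.residueFieldMap y).hom ≤ DimLib.trdegHom (f.residueFieldMap x).hom) :
    x ∈ MoreMor.relAss f F ∧
      DimLib.trdegHom (f.residueFieldMap x).hom = DimLib.trdegHom (f.residueFieldMap y).hom := by
  obtain ⟨V, hV, hfx, -⟩ := exists_isAffineOpen_mem_and_subset (x := f x) (U := ⊤) trivial
  obtain ⟨U₀, hU₀, hxU₀, e₀⟩ := exists_isAffineOpen_mem_and_subset (x := x) (U := f ⁻¹ᵁ V) hfx
  have e₀ : U₀ ≤ f ⁻¹ᵁ V := e₀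
  have : Nonempty V := ⟨⟨f x, hfx⟩⟩
  have hdom : IsDomain Γ(S, V) := inferInstance
  have hR := FlatMorDevissage.weakAss_finite_of_isDomain Γ(S, V)
  obtain ⟨U, hU, hxU, e, hflat⟩ : ∃ (U : X.Opens) (_ : IsAffineOpen U) (_ : x ∈ U) (_ : U ≤ f ⁻¹ᵁ V),
      ∀ w ∈ U, FlatMod.IsFlatOverAt f F w := by
    let _ := (f.appLE V U₀ e₀).hom.toAlgebra
    let _ := QcohFlat.overModule f F V U₀ e₀
    have : IsScalarTower Γ(S, V) Γ(X, U₀) Γ(F, U₀) := IsScalarTower.of_algebraMap_smul fun _ _ => rfl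
    have : Algebra.FiniteType Γ(S, V) Γ(X, U₀) := LocallyOfFiniteType.finiteType_appLE f hV hU₀ e₀
    have : Module.Finite Γ(X, U₀) Γ(F, U₀) := H8Lim.finite_sections_of_isFT (M := F) hF hU₀
    have ho := FlatMorDevissage.isOpen_flatAt (R := Γ(S, V)) (S := Γ(X, U₀)) Γ(F, U₀) hR
    have hmem : hU₀.primeIdealOf ⟨x, hxU₀⟩ ∈
        {q : PrimeSpectrum Γ(X, U₀) | FlatCA.FlatAt Γ(S, V) q.asIdeal Γ(F, U₀)} :=
      (QcohFlat.isFlatOverAt_iff f F hV hU₀ e₀ hxU₀).1 hfl
    obtain ⟨_, ⟨_, ⟨g, rfl⟩, rfl⟩, hxg, hsub⟩ :=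
      PrimeSpectrum.isBasis_basic_opens.exists_subset_of_mem_open hmem ho
    have hmem' : ∀ (w : X) (hw : w ∈ U₀), hU₀.primeIdealOf ⟨w, hw⟩ ∈ PrimeSpectrum.basicOpen g ↔
        w ∈ X.basicOpen g := fun w hw => by
      rw [← hU₀.fromSpec_preimage_basicOpen]
      show hU₀.fromSpec (hU₀.primeIdealOf ⟨w, hw⟩) ∈ X.basicOpen g ↔ _
      rw [hU₀.fromSpec_primeIdealOf]
    refine ⟨X.basicOpen g, hU₀.basicOpen g, (hmem' x hxU₀).1 hxg, (X.basicOpen_le g).trans e₀, fun w hw => ?_⟩
    exact (QcohFlat.isFlatOverAt_iff f F hV hU₀ e₀ (X.basicOpen_le g hw)).2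
      (hsub ((hmem' w (X.basicOpen_le g hw)).2 hw))
  let A := Γ(S, V)
  obtain ⟨N, π, hπ, hc⟩ := exists_mvPolynomial_surjective (f.appLE V U e).hom
    (LocallyOfFiniteType.finiteType_appLE f hV hU e)
  let P := MvPolynomial (Fin N) A
  let _ := (f.appLE V U e).hom.toAlgebra
  let _ : Module P Γ(F, U) := Module.compHom Γ(F, U) π
  let _ := QcohFlat.overModule f F V U e
  have : IsScalarTower A P Γ(F, U) := IsScalarTower.of_algebraMap_smul fun a m => by
    show π (algebraMap A P a) • m = (f.appLE V U e).hom a • m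
    rw [← hc]; rfl
  have : Module.Finite Γ(X, U) Γ(F, U) := H8Lim.finite_sections_of_isFT (M := F) hF hU
  have hfin : Module.Finite P Γ(F, U) := by
    let _ : Algebra P Γ(X, U) := π.toAlgebra
    have : IsScalarTower P Γ(X, U) Γ(F, U) := IsScalarTower.of_algebraMap_smul fun _ _ => rfl
    have : Module.Finite P Γ(X, U) := Module.Finite.of_surjective (Algebra.linearMap P Γ(X, U)) hπ
    exact Module.Finite.trans Γ(X, U) Γ(F, U)
  have hMflat : Module.Flat A Γ(F, U) := flat_sections f F hV hU e hflat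
  have : Module.FinitePresentation P Γ(F, U) :=
    FlatMorDevissage.finitePresentation_of_flat (R := A) Γ(F, U) hR
  have hP : HasAffineSpaceFibres A P N := hasAffineSpaceFibres_mvPolynomial A N
  -- the chart invariants of a point
  have key : ∀ (w : X) (hw : w ∈ U),
      (w ∈ MoreMor.relAss f F ↔ PrimeSpectrum.comap π (hU.primeIdealOf ⟨w, hw⟩) ∈ assSet A Γ(F, U)) ∧
      DimLib.trdegHom (f.residueFieldMap w).hom = trd A (PrimeSpectrum.comap π (hU.primeIdealOf ⟨w, hw⟩)) := by
    intro w hw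
    obtain ⟨s, hs⟩ : ∃ s, f w = s := ⟨_, rfl⟩
    obtain ⟨z, rfl⟩ : w ∈ Set.range (f.fiberι s) := by rw [Scheme.Hom.range_fiberι]; exact hs
    obtain ⟨Q, hQ, hdepth, hdim, hcl, hsk, heq⟩ := exists_fibre_point f F hV hU e π hπ hc hfin s z hw
    have hn : IsLocallyNoetherian (f.fiber s) := FlatMor12.RelAssBC.isLocallyNoetherian_fiber f s
    have : Coh.IsQCoh ((Scheme.Modules.pullback (f.fiberι s)).obj F) := InjFibre.isQCoh_pullback _ F
    have hfG : Module.Finite ((f.fiber s).presheaf.stalk z)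
        (((Scheme.Modules.pullback (f.fiberι s)).obj F).presheaf.stalk z) :=
      FlatMor12.IsoLocusMod.finite_stalk (Coherent.isFT_pullback_qcoh _ inferInstance hF) z
    obtain ⟨-, hass, -, -, htrd⟩ := local_iffs hP _ Q hQ hdepth hdim hcl hsk heq
    refine ⟨(mem_relAss_iff f F s z).trans hass, ?_⟩
    rw [H8Coh.FibreAssSpread.dim_closure f s z] at htrd
    exact (ptDim_fiber f s z).symm.trans (Nat.cast_injective htrd)
  have hyU : y ∈ U := hyx.mem_open U.isOpen hxU
  obtain ⟨hassy, hdy⟩ := key y hyU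
  obtain ⟨hassx, hdx⟩ := key x hxU
  let px := PrimeSpectrum.comap π (hU.primeIdealOf ⟨x, hxU⟩)
  let py := PrimeSpectrum.comap π (hU.primeIdealOf ⟨y, hyU⟩)
  have hsp : py ⤳ px := by
    refine Specializes.map ?_ (PrimeSpectrum.continuous_comap π)
    rw [← hU.fromSpec.isOpenEmbedding.isEmbedding.isInducing.specializes_iff, hU.fromSpec_primeIdealOf,
      hU.fromSpec_primeIdealOf]
    exact hyx
  obtain ⟨hys, hyr⟩ := hassy.1 hy
  have hxsupp : px ∈ Module.support P Γ(F, U) :=
    Module.mem_support_mono ((PrimeSpectrum.le_iff_specializes py px).2 hsp) hys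
  have hle : rect A Γ(F, U) px ≤ (trd A py : ℕ∞) :=
    hsp.mem_closed (isClosed_setOf_rect_le (M := Γ(F, U)) hP (trd A py)) hyr.le
  have hdle : (trd A py : ℕ∞) ≤ (trd A px : ℕ∞) := Nat.cast_le.2 (hdy ▸ hdx ▸ hd)
  have h1 : rect A Γ(F, U) px = (trd A px : ℕ∞) :=
    le_antisymm (hle.trans hdle) (trd_le_rect A Γ(F, U) px)
  refine ⟨hassx.2 ⟨hxsupp, h1⟩, le_antisymm ?_ hd⟩
  rw [hdx, hdy]
  exact Nat.cast_le.1 (h1.symm.trans_le hle)

theorem mem_relAss_baseChange_iff {X' S' : Scheme.{u}} (f : X ⟶ S) [LocallyOfFiniteType f] (F : X.Modules)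
    [Coh.IsQCoh F] (hF : CohB1.IsFT F) {j : S' ⟶ S} [IsPreimmersion j] {f' : X' ⟶ S'} {g' : X' ⟶ X}
    (hc : IsPullback g' f' f j) (x' : X') :
    x' ∈ MoreMor.relAss f' ((Scheme.Modules.pullback g').obj F) ↔ g' x' ∈ MoreMor.relAss f F := by
  have : LocallyOfFiniteType f' := MorphismProperty.of_isPullback hc inferInstance
  obtain ⟨s', hs⟩ : ∃ s', f' x' = s' := ⟨_, rfl⟩
  obtain ⟨y', rfl⟩ : x' ∈ Set.range (f'.fiberι s') := by rw [Scheme.Hom.range_fiberι]; exact hs
  let φ : f'.fiber s' ⟶ f.fiber (j s') :=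
    pullback.map _ _ _ _ g' (Spec.map (j.residueFieldMap s')) j hc.w.symm (by simp)
  have hsq := isPullback_fiberToSpecResidueField_of_isPullback hc s'
  have hφ : φ ≫ f.fiberι (j s') = f'.fiberι s' ≫ g' := pullback.lift_fst _ _ _
  have := DimLib.isIso_residueFieldMap_of_isPreimmersion j s'
  have hiso : IsIso φ :=
    MorphismProperty.of_isPullback (P := MorphismProperty.isomorphisms Scheme) hsq.flip
      (inferInstanceAs (IsIso (Spec.map (j.residueFieldMap s'))))
  have := FlatMor12.RelAssBC.isLocallyNoetherian_fiber f (j s')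
  have := FlatMor12.RelAssBC.isLocallyNoetherian_fiber f' s'
  let G := (Scheme.Modules.pullback (f.fiberι (j s'))).obj F
  have hGq : Coh.IsQCoh G := InjFibre.isQCoh_pullback _ F
  have hG : CohB1.IsFT G := Coherent.isFT_pullback_qcoh _ inferInstance hF
  let ε : (Scheme.Modules.pullback φ).obj G ≅ (Scheme.Modules.pullback (f'.fiberι s')).obj ((Scheme.Modules.pullback g').obj F) :=
    (Scheme.Modules.pullbackComp φ (f.fiberι (j s'))).app F ≪≫ (Scheme.Modules.pullbackCongr hφ).app F ≪≫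
      ((Scheme.Modules.pullbackComp (f'.fiberι s') g').app F).symm
  have hpt : g' (f'.fiberι s' y') = f.fiberι (j s') (φ y') := by
    rw [← Scheme.Hom.comp_apply, ← hφ, Scheme.Hom.comp_apply]
  rw [hpt, FlatMor12.RelAssBC.mem_relAss_fiberι_iff, FlatMor12.RelAssBC.mem_relAss_fiberι_iff,
    ← FlatMor12.RelAssBC.hasSoc_of_equiv ((DerSch.stalkFunctor _ y').mapIso ε).toLinearEquiv]
  refine ⟨FlatMor12.RelAssBC.hasSoc_of_pullback φ G hG y', fun h => ?_⟩
  obtain ⟨z, hz, hz'⟩ := FlatMor12.RelAssBC.exists_hasSoc_pullback φ G (φ y') h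
  rwa [(Scheme.homeoOfIso (asIso φ)).injective hz] at hz'

theorem trdegHom_residueFieldMap_of_isPullback {X' S' : Scheme.{u}} (f : X ⟶ S) {j : S' ⟶ S}
    [IsPreimmersion j] {f' : X' ⟶ S'} {g' : X' ⟶ X} [IsPreimmersion g'] (hw : g' ≫ f = f' ≫ j) (w : X') :
    DimLib.trdegHom (f'.residueFieldMap w).hom = DimLib.trdegHom (f.residueFieldMap (g' w)).hom := by
  rw [← Chevalley.trdegHom_residueFieldMap_postcomp f' j w, ← Chevalley.trdegHom_residueFieldMap_comp g' f w]
  have key : ∀ {t t' : X' ⟶ S}, t = t' →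
      DimLib.trdegHom (t.residueFieldMap w).hom = DimLib.trdegHom (t'.residueFieldMap w).hom := by
    rintro t t' rfl; rfl
  exact key hw.symm

/-- Flatness at a specialisation of a relative associated point of no smaller dimension. -/
theorem relAss_of_specializes (f : X ⟶ S) [LocallyOfFiniteType f]
    (F : X.Modules) [Coh.IsQCoh F] (hF : CohB1.IsFT F) {x y : X} (hyx : y ⤳ x)
    (hfl : FlatMod.IsFlatOverAt f F x) (hy : y ∈ MoreMor.relAss f F)
    (hd : DimLib.trdegHom (f.residueFieldMap y).hom ≤ DimLib.trdegHom (f.residueFieldMap x).hom) :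
    x ∈ MoreMor.relAss f F ∧
      DimLib.trdegHom (f.residueFieldMap x).hom = DimLib.trdegHom (f.residueFieldMap y).hom := by
  let Z : Closeds S := ⟨closure {f y}, isClosed_closure⟩
  let I := Scheme.IdealSheafData.vanishingIdeal Z
  let j := I.subschemeι
  have : IsReduced I.subscheme := Props12.isReduced_subscheme_vanishingIdeal Z
  have hr : Set.range j = closure {f y} := by
    rw [Scheme.IdealSheafData.range_subschemeι, Scheme.IdealSheafData.coe_support_vanishingIdeal]
    rfl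
  obtain ⟨η, hη⟩ : f y ∈ Set.range j := hr.ge (subset_closure rfl)
  have hgen : ∀ z, η ⤳ z := fun z => by
    rw [← j.isClosedEmbedding.isEmbedding.isInducing.specializes_iff, hη]
    exact specializes_iff_mem_closure.2 (hr.le ⟨z, rfl⟩)
  have : Nonempty I.subscheme := ⟨η⟩
  have : IrreducibleSpace I.subscheme := by
    have h : closure ({η} : Set I.subscheme) = Set.univ :=
      Set.eq_univ_of_forall fun z => (hgen z).mem_closure
    have : PreirreducibleSpace I.subscheme := ⟨h ▸ isIrreducible_singleton.closure.isPreirreducible⟩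
    exact { toPreirreducibleSpace := this, toNonempty := ⟨η⟩ }
  have : IsIntegral I.subscheme := isIntegral_of_irreducibleSpace_of_isReduced _
  let f' := pullback.snd f j
  let g' := pullback.fst f j
  have hc : IsPullback g' f' f j := IsPullback.of_hasPullback f j
  have : LocallyOfFiniteType f' := MorphismProperty.pullback_snd _ _ inferInstance
  let F' := (Scheme.Modules.pullback g').obj F
  have : Coh.IsQCoh F' := InjFibre.isQCoh_pullback _ F
  have hmem : ∀ w : X, f w ∈ closure {f y} → w ∈ Set.range g' := fun w hw => by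
    rw [Scheme.Pullback.range_fst]
    exact hr.ge hw
  obtain ⟨y', hy'⟩ := hmem y (subset_closure rfl)
  obtain ⟨x', hx'⟩ := hmem x ((hyx.map f.continuous).mem_closure)
  rw [← hy', ← hx'] at hyx hd ⊢
  rw [← hy'] at hy
  rw [← hx'] at hfl
  have hsp : y' ⤳ x' := g'.isClosedEmbedding.isEmbedding.isInducing.specializes_iff.1 hyx
  have htrd : ∀ w, DimLib.trdegHom (f'.residueFieldMap w).hom =
      DimLib.trdegHom (f.residueFieldMap (g' w)).hom :=
    fun w => trdegHom_residueFieldMap_of_isPullback f hc.w w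
  have h := relAss_of_specializes_of_isIntegral f' F' (Coherent.isFT_pullback_qcoh _ inferInstance hF) hsp
    (FlatMorStrata.isFlatOverAt_baseChange hc F x' hfl)
    ((mem_relAss_baseChange_iff f F hF hc y').2 hy) (by rwa [htrd, htrd])
  rw [htrd, htrd] at h
  exact ⟨(mem_relAss_baseChange_iff f F hF hc x').1 h.1, h.2⟩

end Groth.Agent.FlatMorAssOpen
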