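import Groth.Agent.CAlgH.GenericFreeModule
import Groth.Agent.FlatMorGeneric.Scheme
import Groth.Agent.EGA43.FPKernel
import Groth.Agent.EGA43.QcohFP
import Groth.Agent.H8Lim.ModEq
import Groth.Agent.Desc19b.ModStFibGrpd

/-! Generic finite presentation of finite type modules over a domain. -/

set_option autoImplicit false
set_option backward.isDefEq.respectTransparency false

universe u

open CategoryTheory AlgebraicGeometry TopologicalSpace
open Groth.Agent

namespace Groth.Agent.FlatMorAssOpen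

theorem finitePresentation_of_isLocalization {S S' M M' : Type u} [CommRing S] [CommRing S'] [Algebra S S']
    [AddCommGroup M] [Module S M] [AddCommGroup M'] [Module S M'] [Module S' M'] [IsScalarTower S S' M']
    (s : S) [IsLocalization.Away s S'] (φ : M →ₗ[S] M') [IsLocalizedModule.Away s φ]
    [Module.FinitePresentation (Localization.Away s) (LocalizedModule (Submonoid.powers s) M)] :
    Module.FinitePresentation S' M' := by
  let e : Localization.Away s ≃ₐ[S] S' := IsLocalization.algEquiv (Submonoid.powers s) _ _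
  let _ : Algebra (Localization.Away s) S' := e.toAlgHom.toRingHom.toAlgebra
  let _ : Module (Localization.Away s) M' := Module.compHom M' e.toAlgHom.toRingHom
  have : IsScalarTower S (Localization.Away s) M' := IsScalarTower.of_algebraMap_smul fun r m => by
    show e (algebraMap S (Localization.Away s) r) • m = r • m
    rw [e.commutes, algebraMap_smul]
  have : IsScalarTower (Localization.Away s) S' M' := IsScalarTower.of_algebraMap_smul fun _ _ => rfl
  let l := (IsLocalizedModule.iso (Submonoid.powers s) φ).extendScalarsOfIsLocalization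
    (Submonoid.powers s) (Localization.Away s)
  have := Module.FinitePresentation.of_equiv l
  exact EGA43.FlatSyzygy.finitePresentation_of_surjective_algebraMap
    (Q := Localization.Away s) (show Function.Surjective (algebraMap (Localization.Away s) S') from e.surjective)

theorem finitePresentation_restrict {X : Scheme.{u}} (M : X.Modules) (J : X.Opens) (U : J.toScheme.Opens)
    {V : X.Opens} (hV : J.ι ''ᵁ U = V) [h : Module.FinitePresentation Γ(X, V) Γ(M, V)] :
    Module.FinitePresentation Γ(J.toScheme, U) Γ(M.restrict J.ι, U) := by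
  have h' : Module.FinitePresentation Γ(X, J.ι ''ᵁ U) Γ(M, J.ι ''ᵁ U) := by
    rw [hV]
    exact h
  let ψ : Γ(X, J.ι ''ᵁ U) →+* Γ(J.toScheme, U) := (J.ι.appIso U).hom.hom
  have hψ : Function.Surjective ψ :=
    (ConcreteCategory.bijective_of_isIso (J.ι.appIso U).hom).2
  let _ := ψ.toAlgebra
  let _ := Module.compHom Γ(M.restrict J.ι, U) ψ
  have : IsScalarTower Γ(X, J.ι ''ᵁ U) Γ(J.toScheme, U) Γ(M.restrict J.ι, U) :=
    IsScalarTower.of_algebraMap_smul fun _ _ => rfl
  let l : Γ(M.restrict J.ι, U) ≃ₗ[Γ(X, J.ι ''ᵁ U)] Γ(M, J.ι ''ᵁ U) :=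
    { (M.restrictAppIso J.ι U).addCommGroupIsoToAddEquiv with
      map_smul' := fun r m => by
        change (M.restrictAppIso J.ι _).hom (ψ r • m) = r • (M.restrictAppIso J.ι _).hom m
        rw [Scheme.Modules.smul_restrictAppIso_hom_apply]
        congr 1
        exact (J.ι.appIso U).hom_inv_id_apply r }
  have := Module.FinitePresentation.of_equiv l.symm
  exact EGA43.FlatSyzygy.finitePresentation_of_surjective_algebraMap (Q := Γ(X, J.ι ''ᵁ U)) hψ

theorem isFP_of_iso {X : Scheme.{u}} {M N : X.Modules} (e : M ≅ N) (h : CohB1.IsFP M) : CohB1.IsFP N :=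
  (SheafOfModules.isFinitePresentation X.ringCatSheaf).prop_of_iso e h

/-- Over a domain, away from a nonzero element a morphism of finite type is of finite presentation and
a module of finite type is of finite presentation. -/
theorem exists_away_fp {A : Type u} [CommRing A] [IsDomain A] {X : Scheme.{u}}
    (g : X ⟶ Spec (.of A)) [LocallyOfFiniteType g] [QuasiCompact g]
    (F : X.Modules) [Coh.IsQCoh F] (hF : CohB1.IsFT F) :
    ∃ a : A, a ≠ 0 ∧ LocallyOfFinitePresentation ((g ⁻¹ᵁ PrimeSpectrum.basicOpen a).ι ≫ g) ∧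
      CohB1.IsFP ((Scheme.Modules.pullback (g ⁻¹ᵁ PrimeSpectrum.basicOpen a).ι).obj F) := by
  classical
  have : CompactSpace X := QuasiCompact.compactSpace_of_compactSpace g
  have : IsReduced (Spec (CommRingCat.of A)) := inferInstance
  obtain ⟨D₀, hD₀, -, hlfp⟩ := FlatMorGeneric.exists_dense_flat_lfp g
  have hbot : (⟨⊥, Ideal.isPrime_bot⟩ : PrimeSpectrum A) ∈ D₀ := by
    obtain ⟨p, hp⟩ := hD₀.nonempty
    exact ((PrimeSpectrum.le_iff_specializes ⟨⊥, Ideal.isPrime_bot⟩ p).1 bot_le).mem_open D₀.isOpen hp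
  obtain ⟨_, ⟨_, ⟨a₀, rfl⟩, rfl⟩, ha₀, ha₀D⟩ :=
    PrimeSpectrum.isBasis_basic_opens.exists_subset_of_mem_open hbot D₀.isOpen
  let 𝒰 := {W : X.Opens // IsAffineOpen W}
  obtain ⟨t, ht⟩ := isCompact_univ.elim_finite_subcover (fun W : 𝒰 => (W.1 : Set X))
    (fun W => W.1.isOpen) fun x _ => by
      obtain ⟨W, hW, hxW, -⟩ := exists_isAffineOpen_mem_and_subset (x := x) (U := ⊤) trivial
      exact Set.mem_iUnion.2 ⟨⟨W, hW⟩, hxW⟩
  let φ : ∀ W : 𝒰, A →+* Γ(X, W.1) := fun W =>
    (g.appLE ⊤ W.1 le_top).hom.comp (Scheme.ΓSpecIso (.of A)).inv.hom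
  have key : ∀ W : 𝒰, ∃ a : A, a ≠ 0 ∧
      Module.FinitePresentation Γ(X, X.basicOpen (φ W a)) Γ(F, X.basicOpen (φ W a)) := fun W => by
    let _ := (φ W).toAlgebra
    have hft : (φ W).FiniteType :=
      (LocallyOfFiniteType.finiteType_appLE g (isAffineOpen_top _) W.2 le_top).comp
        (RingHom.FiniteType.of_surjective _ (ConcreteCategory.bijective_of_isIso (Scheme.ΓSpecIso (.of A)).inv).2)
    have : Algebra.FiniteType A Γ(X, W.1) := hft
    let _ : Module A Γ(F, W.1) := Module.compHom Γ(F, W.1) (φ W)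
    have : IsScalarTower A Γ(X, W.1) Γ(F, W.1) := IsScalarTower.of_algebraMap_smul fun _ _ => rfl
    have : Module.Finite Γ(X, W.1) Γ(F, W.1) := H8Lim.finite_sections_of_isFT (M := F) hF W.2
    obtain ⟨a, -, ha, -, -, -, hfp⟩ :=
      CAlgH.GenericFreeModule.exists_dvd_good (R := A) (S := Γ(X, W.1)) (M := Γ(F, W.1)) 1 one_ne_zero
    refine ⟨a, ha, ?_⟩
    let s := φ W a
    let _ := (X.presheaf.map (homOfLE (X.basicOpen_le s)).op).hom.toAlgebra
    let _ := Module.compHom Γ(F, X.basicOpen s) (X.presheaf.map (homOfLE (X.basicOpen_le s)).op).hom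
    have : IsScalarTower Γ(X, W.1) Γ(X, X.basicOpen s) Γ(F, X.basicOpen s) :=
      IsScalarTower.of_algebraMap_smul fun _ _ => rfl
    have := W.2.isLocalization_basicOpen s
    let ψ : Γ(F, W.1) →ₗ[Γ(X, W.1)] Γ(F, X.basicOpen s) :=
      { toFun := fun m => F.presheaf.map (homOfLE (X.basicOpen_le s)).op m
        map_add' := map_add _
        map_smul' := fun r m => F.map_smul _ r m }
    have := EGA43.QcohFP.isLocalizedModule_res F W.2 s ψ fun _ => rfl
    have : Module.FinitePresentation (Localization.Away s) (LocalizedModule (Submonoid.powers s) Γ(F, W.1)) := hfp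
    exact finitePresentation_of_isLocalization s ψ
  choose a ha hfp using key
  let b : A := a₀ * ∏ W ∈ t, a W
  have hb : b ≠ 0 := mul_ne_zero (fun h => ha₀ (by rw [h]; exact zero_mem _))
    (Finset.prod_ne_zero_iff.2 fun W _ => ha W)
  refine ⟨b, hb, ?_, ?_⟩
  · let O := g ⁻¹ᵁ PrimeSpectrum.basicOpen b
    have hle : O ≤ g ⁻¹ᵁ D₀ := fun x hx =>
      ha₀D ((PrimeSpectrum.basicOpen_mul_le_left a₀ _) (show g x ∈ PrimeSpectrum.basicOpen b from hx))
    have h1 : LocallyOfFinitePresentation ((g ∣_ D₀) ≫ D₀.ι) := inferInstance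
    rw [morphismRestrict_ι] at h1
    have h2 : LocallyOfFinitePresentation (X.homOfLE hle ≫ (g ⁻¹ᵁ D₀).ι ≫ g) := inferInstance
    rwa [← Category.assoc, Scheme.homOfLE_ι] at h2
  · let O := g ⁻¹ᵁ PrimeSpectrum.basicOpen b
    let J : X.Opens := ⨆ W : t, X.basicOpen (φ W.1 (a W.1))
    have hD : ∀ W : 𝒰, X.basicOpen (φ W (a W)) =
        W.1 ⊓ g ⁻¹ᵁ PrimeSpectrum.basicOpen (a W) := fun W => by
      show X.basicOpen ((g.appLE ⊤ W.1 le_top) ((Scheme.ΓSpecIso (.of A)).inv (a W))) = _
      rw [Scheme.Hom.appLE, CommRingCat.comp_apply, Scheme.basicOpen_res, ← Scheme.preimage_basicOpen,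
        basicOpen_eq_of_affine']
      congr 2
      rw [← CommRingCat.comp_apply, Iso.inv_hom_id]
      rfl
    have hle : O ≤ J := fun x hx => by
      obtain ⟨W, hWt, hxW⟩ := Set.mem_iUnion₂.1 (ht (Set.mem_univ x))
      refine Opens.mem_iSup.2 ⟨⟨W, hWt⟩, ?_⟩
      rw [hD]
      refine ⟨hxW, fun h => ?_⟩
      exact hx (Ideal.mul_mem_left _ _ (Ideal.prod_mem _ hWt h))
    let G := F.restrict J.ι
    have hGq : Coh.IsQCoh G := inferInstanceAs (Coh.IsQCoh (F.restrict J.ι))
    have hG : CohB1.IsFP G := EGA43.FPKernel.isFP_of_forall_exists_affine G fun x => by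
      obtain ⟨W, hxW⟩ := Opens.mem_iSup.1 x.2
      have hsub : X.basicOpen (φ W.1 (a W.1)) ≤ J := le_iSup (fun W : t => X.basicOpen (φ W.1 (a W.1))) W
      refine ⟨J.ι ⁻¹ᵁ X.basicOpen (φ W.1 (a W.1)),
        (W.1.2.basicOpen _).preimage_of_isOpenImmersion J.ι (by rwa [Scheme.Opens.opensRange_ι]), hxW, ?_⟩
      have := hfp W.1
      exact finitePresentation_restrict F J _ (V := X.basicOpen (φ W.1 (a W.1))) (by
        rw [Scheme.Hom.image_preimage_eq_opensRange_inf, Scheme.Opens.opensRange_ι, inf_eq_right.2 hsub])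
    have hG' : CohB1.IsFP ((Scheme.Modules.pullback J.ι).obj F) :=
      isFP_of_iso ((Scheme.Modules.restrictFunctorIsoPullback J.ι).app F) hG
    exact isFP_of_iso ((Scheme.Modules.pullbackComp (X.homOfLE hle) J.ι).app F ≪≫
      (Scheme.Modules.pullbackCongr (X.homOfLE_ι hle)).app F)
      (Desc19b.ModStFib.isFP_pullback (X.homOfLE hle) _ hG')

end Groth.Agent.FlatMorAssOpen
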