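import Groth.Agent.FlatMor12.RelAssBC
import Groth.Agent.Coherent.QcohOps

/-! Relative associated points are local on the source. -/

set_option autoImplicit false
set_option backward.isDefEq.respectTransparency false

universe u

open CategoryTheory CategoryTheory.Limits AlgebraicGeometry IsLocalRing

namespace Groth.Agent.FlatMorAssOpen

open Groth.Agent.FlatMor12.RelAssBC Groth.Agent.EGA43 Groth.Agent

theorem mem_relAss_comp_iff {X W S : Scheme.{u}} (f : X ⟶ S) [LocallyOfFiniteType f] (j : W ⟶ X)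
    [IsOpenImmersion j] (F : X.Modules) [Coh.IsQCoh F] (hF : CohB1.IsFT F) (w : W) :
    w ∈ MoreMor.relAss (j ≫ f) ((Scheme.Modules.pullback j).obj F) ↔ j w ∈ MoreMor.relAss f F := by
  obtain ⟨s, hs⟩ : ∃ s, (j ≫ f) w = s := ⟨_, rfl⟩
  obtain ⟨y, rfl⟩ : w ∈ Set.range ((j ≫ f).fiberι s) := by rw [Scheme.Hom.range_fiberι]; exact hs
  let φ : (j ≫ f).fiber s ⟶ f.fiber s :=
    pullback.map _ _ _ _ j (𝟙 _) (𝟙 _) (by simp) (by simp)
  have hφ : φ ≫ f.fiberι s = (j ≫ f).fiberι s ≫ j := pullback.lift_fst _ _ _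
  have : IsOpenImmersion φ := inferInstance
  have := isLocallyNoetherian_fiber f s
  have := isLocallyNoetherian_fiber (j ≫ f) s
  let G := (Scheme.Modules.pullback (f.fiberι s)).obj F
  have hGq : Coh.IsQCoh G := InjFibre.isQCoh_pullback _ F
  have hG : CohB1.IsFT G := Coherent.isFT_pullback_qcoh _ inferInstance hF
  let ε : (Scheme.Modules.pullback φ).obj G ≅
      (Scheme.Modules.pullback ((j ≫ f).fiberι s)).obj ((Scheme.Modules.pullback j).obj F) :=
    (Scheme.Modules.pullbackComp φ (f.fiberι s)).app F ≪≫ (Scheme.Modules.pullbackCongr hφ).app F ≪≫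
      ((Scheme.Modules.pullbackComp ((j ≫ f).fiberι s) j).app F).symm
  have hpt : j ((j ≫ f).fiberι s y) = f.fiberι s (φ y) := by
    rw [← Scheme.Hom.comp_apply, ← hφ, Scheme.Hom.comp_apply]
  rw [hpt, mem_relAss_fiberι_iff, mem_relAss_fiberι_iff,
    ← hasSoc_of_equiv ((DerSch.stalkFunctor _ y).mapIso ε).toLinearEquiv]
  refine ⟨hasSoc_of_pullback φ G hG y, fun h => ?_⟩
  algebraize [(φ.stalkMap y).hom]
  have : IsLocalHom (algebraMap ((f.fiber s).presheaf.stalk (φ y)) (((j ≫ f).fiber s).presheaf.stalk y)) :=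
    inferInstanceAs (IsLocalHom (φ.stalkMap y).hom)
  have : Module.Flat ((f.fiber s).presheaf.stalk (φ y)) (((j ≫ f).fiber s).presheaf.stalk y) := Flat.stalkMap φ y
  refine (hasSoc_of_equiv ((ModStalk.pullbackStalkIso φ y).app G).toLinearEquiv).2 (hasSoc_tensor ?_ h)
  have hb : Function.Bijective (φ.stalkMap y).hom := ConcreteCategory.bijective_of_isIso (φ.stalkMap y)
  refine le_trans (fun z hz => ?_) Ideal.le_radical
  obtain ⟨a, rfl⟩ := hb.2 z
  exact Ideal.mem_map_of_mem _ ((IsLocalRing.mem_maximalIdeal _).2 fun hu => hz (hu.map _))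

end Groth.Agent.FlatMorAssOpen
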