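import Groth.Agent.FlatMorAssOpen.Cons
import Groth.Agent.FlatMorAssOpen.GenericFP
import Groth.Agent.FlatMorAssOpen.Local
import Groth.Agent.Props12.KerReduced
import Groth.Agent.AssSch12.Uniq
import Groth.Agent.EGA43.Limit.Basic

/-! Associated points of the fibres near the generic point: inside an open or not. -/

set_option autoImplicit false
set_option maxHeartbeats 800000
set_option backward.isDefEq.respectTransparency false

universe u

open CategoryTheory CategoryTheory.Limits AlgebraicGeometry Topology TopologicalSpace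
open Groth.Agent

namespace Groth.Agent.FlatMorAssOpen

theorem exists_basicOpen_iff {A : Type u} [CommRing A] [IsDomain A] {O : Scheme.{u}}
    (h : O ⟶ Spec (.of A)) [LocallyOfFinitePresentation h] [QuasiCompact h] (G : O.Modules)
    (hG : CohB1.IsFP G) (C : Set O) (hC : IsLocallyConstructible C) :
    ∃ a : A, a ≠ 0 ∧ ∀ p ∈ PrimeSpectrum.basicOpen a,
      ((∀ y ∈ MoreMor.relAss h G, h y = p → y ∈ C) ↔
        ∀ y ∈ MoreMor.relAss h G, h y = (⟨⊥, Ideal.isPrime_bot⟩ : PrimeSpectrum A) → y ∈ C) := by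
  classical
  let η : Spec (.of A) := (⟨⊥, Ideal.isPrime_bot⟩ : PrimeSpectrum A)
  have hηg : genericPoint (Spec (.of A)) = η := genericPoint_eq_bot_of_affine (.of A)
  let E : Set (Spec (.of A)) := {p | ∀ y ∈ MoreMor.relAss h G, h y = p → y ∈ C}
  have hE : IsLocallyConstructible E := isLocallyConstructible_setOf h G hG C hC
  obtain ⟨E', hE', hηE', hiff⟩ : ∃ E' : Set (Spec (.of A)), IsLocallyConstructible E' ∧ η ∈ E' ∧
      ∀ p ∈ E', (p ∈ E ↔ η ∈ E) := by
    by_cases hη : η ∈ E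
    · exact ⟨E, hE, hη, fun p hp => iff_of_true hp hη⟩
    · exact ⟨Eᶜ, EGA43.Cons.isLocallyConstructible_compl hE, hη, fun p hp => iff_of_false hp hη⟩
  obtain ⟨V, hηV, hV⟩ := H8Coh.FibreAssSpread.exists_open_subset hE' (by rw [hηg]; exact hηE')
  rw [hηg] at hηV
  obtain ⟨_, ⟨_, ⟨a, rfl⟩, rfl⟩, ha, haV⟩ :=
    PrimeSpectrum.isBasis_basic_opens.exists_subset_of_mem_open hηV V.isOpen
  exact ⟨a, fun h0 => ha (by rw [h0]; exact zero_mem _), fun p hp => hiff p (hV (haV hp))⟩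

theorem exists_basicOpen_iff_of_isAffine {A : Type u} [CommRing A] [IsDomain A] {X : Scheme.{u}} [IsAffine X]
    (g : X ⟶ Spec (.of A)) [LocallyOfFiniteType g] (F : X.Modules) [Coh.IsQCoh F] (hF : CohB1.IsFT F)
    (U : X.Opens) :
    ∃ a : A, a ≠ 0 ∧ ∀ p ∈ PrimeSpectrum.basicOpen a,
      ((∀ x ∈ MoreMor.relAss g F, g x = p → x ∈ U) ↔
        ∀ x ∈ MoreMor.relAss g F, g x = (⟨⊥, Ideal.isPrime_bot⟩ : PrimeSpectrum A) → x ∈ U) := by
  classical
  let η : Spec (.of A) := (⟨⊥, Ideal.isPrime_bot⟩ : PrimeSpectrum A)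
  obtain ⟨a₀, ha₀, hlfp, hfp⟩ := exists_away_fp g F hF
  have hη₀ : η ∈ PrimeSpectrum.basicOpen a₀ := fun h => ha₀ (Ideal.mem_bot.1 h)
  let O := g ⁻¹ᵁ PrimeSpectrum.basicOpen a₀
  let h := O.ι ≫ g
  let G := (Scheme.Modules.pullback O.ι).obj F
  have : IsAffineHom g := inferInstance
  have hO : IsAffineOpen O := (IsAffineOpen.Spec_basicOpen (R := .of A) a₀).preimage g
  have : IsAffine O.toScheme := hO
  have : QuasiCompact h := inferInstance
  have hGq : Coh.IsQCoh G := EGA43.InjFibre.isQCoh_pullback _ F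
  have hloc : ∀ y : O.toScheme, y ∈ MoreMor.relAss h G ↔ O.ι y ∈ MoreMor.relAss g F :=
    mem_relAss_comp_iff g O.ι F hF
  by_cases hη : ∀ x ∈ MoreMor.relAss g F, g x = η → x ∈ U
  · have : LocallyOfFiniteType (h.fiberToSpecResidueField η) :=
      inferInstanceAs (LocallyOfFiniteType (pullback.snd h ((Spec (.of A)).fromSpecResidueField η)))
    have : QuasiCompact (h.fiberToSpecResidueField η) :=
      inferInstanceAs (QuasiCompact (pullback.snd h ((Spec (.of A)).fromSpecResidueField η)))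
    have : IsLocallyNoetherian (h.fiber η) :=
      LocallyOfFiniteType.isLocallyNoetherian (h.fiberToSpecResidueField η)
    have : CompactSpace (h.fiber η) :=
      QuasiCompact.compactSpace_of_compactSpace (h.fiberToSpecResidueField η)
    have hGη := Desc19b.ModStFib.isFP_pullback (h.fiberι η) G hfp
    have hfin : (AssSch.Ass ((Scheme.Modules.pullback (h.fiberι η)).obj G)).Finite :=
      AssSch12.finite_ass (X := h.fiber η) _
        ⟨EGA43.FibDepth.isQCoh_of_isFP _ hGη, haveI := hGη; inferInstance⟩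
    have hex : ∀ y ∈ AssSch.Ass ((Scheme.Modules.pullback (h.fiberι η)).obj G),
        ∃ W : O.toScheme.Opens, IsAffineOpen W ∧ h.fiberι η y ∈ W ∧ W ≤ O.ι ⁻¹ᵁ U := fun y hy => by
      obtain ⟨W, hW, hyW, hWU⟩ := exists_isAffineOpen_mem_and_subset (x := h.fiberι η y) (U := O.ι ⁻¹ᵁ U)
        (hη _ ((hloc _).1 ((mem_relAss_iff h G η y).2 hy)) ((h.range_fiberι η).le ⟨y, rfl⟩))
      exact ⟨W, hW, hyW, hWU⟩
    choose W hW hyW hWU using hex
    let C : Set O.toScheme := ⋃ y : hfin.toFinset, (W y.1 (hfin.mem_toFinset.1 y.2) : Set O.toScheme)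
    have hCo : IsOpen C := isOpen_iUnion fun y => (W y.1 _).isOpen
    have hCc : IsCompact C := isCompact_iUnion fun y => (hW y.1 _).isCompact
    have hCr : IsRetrocompact C := fun T hT hTo =>
      QuasiSeparatedSpace.inter_isCompact _ _ hCo hCc hTo hT
    obtain ⟨a, ha, hiff⟩ := exists_basicOpen_iff h G hfp C (hCr.isLocallyConstructible hCo)
    refine ⟨a₀ * a, mul_ne_zero ha₀ ha, fun p hp => iff_of_true (fun x hx hxp => ?_) hη⟩
    have hxO : x ∈ O := by
      show g x ∈ PrimeSpectrum.basicOpen a₀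
      rw [hxp]; exact PrimeSpectrum.basicOpen_mul_le_left a₀ a hp
    have hp' := (hiff p (PrimeSpectrum.basicOpen_mul_le_right a₀ a hp)).2 fun y hy hyη => by
      obtain ⟨z, rfl⟩ := (h.range_fiberι η).ge (show y ∈ h ⁻¹' {η} from hyη)
      have hz := (mem_relAss_iff h G η z).1 hy
      exact Set.mem_iUnion.2 ⟨⟨z, hfin.mem_toFinset.2 hz⟩, hyW z hz⟩
    obtain ⟨y, hy⟩ := Set.mem_iUnion.1 (hp' ⟨x, hxO⟩ ((hloc _).2 hx) hxp)
    exact hWU y.1 (hfin.mem_toFinset.1 y.2) hy
  · obtain ⟨x, hx, hxη, hxU⟩ : ∃ x ∈ MoreMor.relAss g F, g x = η ∧ x ∉ U := by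
      simp only [not_forall] at hη
      obtain ⟨x, h1, h2, h3⟩ := hη
      exact ⟨x, h1, h2, h3⟩
    let Z : Closeds X := ⟨closure {x}, isClosed_closure⟩
    let I := Scheme.IdealSheafData.vanishingIdeal Z
    have : IsReduced I.subscheme := Props12.isReduced_subscheme_vanishingIdeal Z
    obtain ⟨D₁, hD₁, -, hlfp₁⟩ := FlatMorGeneric.exists_dense_flat_lfp (I.subschemeι ≫ g)
    have : IsReduced (Spec (CommRingCat.of A)) := inferInstance
    have hbot : η ∈ D₁ := by
      obtain ⟨p, hp⟩ := hD₁.nonempty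
      exact ((PrimeSpectrum.le_iff_specializes ⟨⊥, Ideal.isPrime_bot⟩ p).1 bot_le).mem_open D₁.isOpen hp
    obtain ⟨_, ⟨_, ⟨a₁, rfl⟩, rfl⟩, ha₁, ha₁D⟩ :=
      PrimeSpectrum.isBasis_basic_opens.exists_subset_of_mem_open hbot D₁.isOpen
    let O₂ := g ⁻¹ᵁ PrimeSpectrum.basicOpen (a₀ * a₁)
    have hle₀ : O₂ ≤ O := fun z hz => PrimeSpectrum.basicOpen_mul_le_left a₀ a₁ hz
    let h₂ := O₂.ι ≫ g
    have : IsAffine O₂.toScheme := (IsAffineOpen.Spec_basicOpen (R := .of A) (a₀ * a₁)).preimage g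
    have : LocallyOfFinitePresentation h₂ := by
      have : LocallyOfFinitePresentation (X.homOfLE hle₀ ≫ h) := inferInstance
      rwa [← Category.assoc, Scheme.homOfLE_ι] at this
    let G₂ := (Scheme.Modules.pullback O₂.ι).obj F
    have hG₂ : CohB1.IsFP G₂ := isFP_of_iso
      ((Scheme.Modules.pullbackComp (X.homOfLE hle₀) O.ι).app F ≪≫
        (Scheme.Modules.pullbackCongr (X.homOfLE_ι hle₀)).app F)
      (Desc19b.ModStFib.isFP_pullback (X.homOfLE hle₀) _ hfp)
    let i₂ := I.subschemeι ∣_ O₂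
    have hlfp' : LocallyOfFinitePresentation (i₂ ≫ h₂) := by
      have hle₁ : I.subschemeι ⁻¹ᵁ O₂ ≤ (I.subschemeι ≫ g) ⁻¹ᵁ D₁ := fun z hz =>
        ha₁D (PrimeSpectrum.basicOpen_mul_le_right a₀ a₁ hz)
      have h1 : LocallyOfFinitePresentation (((I.subschemeι ≫ g) ∣_ D₁) ≫ D₁.ι) := inferInstance
      rw [morphismRestrict_ι] at h1
      have h2 : LocallyOfFinitePresentation
          (I.subscheme.homOfLE hle₁ ≫ ((I.subschemeι ≫ g) ⁻¹ᵁ D₁).ι ≫ I.subschemeι ≫ g) := inferInstance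
      rw [← Category.assoc, Scheme.homOfLE_ι] at h2
      rwa [← Category.assoc, morphismRestrict_ι, Category.assoc]
    have : LocallyOfFinitePresentation i₂ := EGA43.Limit.locallyOfFinitePresentation_of_comp i₂ h₂
    let C : Set O₂.toScheme := (Set.range i₂)ᶜ
    have hC : IsLocallyConstructible C := EGA43.Cons.isLocallyConstructible_compl (by
      rw [← Set.image_univ]
      exact i₂.isLocallyConstructible_image IsConstructible.univ.isLocallyConstructible)
    have hsub : ∀ y, y ∈ Set.range i₂ → x ⤳ O₂.ι y := by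
      rintro y ⟨z, rfl⟩
      have h3 : O₂.ι (i₂ z) ∈ Set.range I.subschemeι :=
        ⟨_, (congrArg (fun t => t z) (morphismRestrict_ι I.subschemeι O₂)).symm⟩
      rw [Scheme.IdealSheafData.range_subschemeι, Scheme.IdealSheafData.coe_support_vanishingIdeal] at h3
      exact specializes_iff_mem_closure.2 h3
    obtain ⟨a, ha, hiff⟩ := exists_basicOpen_iff h₂ G₂ hG₂ C hC
    have hxO : x ∈ O₂ := by
      show g x ∈ PrimeSpectrum.basicOpen (a₀ * a₁)
      rw [hxη]
      exact fun h => (mul_ne_zero ha₀ fun h' => ha₁ (by rw [h']; exact zero_mem _)) (Ideal.mem_bot.1 h)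
    have hxr : (⟨x, hxO⟩ : O₂.toScheme) ∈ Set.range i₂ := by
      have hmem : x ∈ Set.range I.subschemeι := by
        rw [Scheme.IdealSheafData.range_subschemeι, Scheme.IdealSheafData.coe_support_vanishingIdeal]
        exact subset_closure rfl
      obtain ⟨z, hz⟩ := hmem
      have hzO : z ∈ I.subschemeι ⁻¹ᵁ O₂ := by show I.subschemeι z ∈ O₂; rw [hz]; exact hxO
      exact ⟨⟨z, hzO⟩, Subtype.ext ((congrArg (fun t => t ⟨z, hzO⟩) (morphismRestrict_ι I.subschemeι O₂)).trans hz)⟩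
    refine ⟨a₀ * a₁ * a, mul_ne_zero (mul_ne_zero ha₀ fun h' => ha₁ (by rw [h']; exact zero_mem _)) ha,
      fun p hp => iff_of_false (fun hall => ?_) hη⟩
    refine (fun hη₂ => ?_ : ¬ ∀ y ∈ MoreMor.relAss h₂ G₂, h₂ y = η → y ∈ C)
      ((hiff p (PrimeSpectrum.basicOpen_mul_le_right (a₀ * a₁) a hp)).1 fun y hy hyp hyr => ?_)
    · exact hη₂ ⟨x, hxO⟩ ((mem_relAss_comp_iff g O₂.ι F hF _).2 hx) hxη hxr
    · exact hxU ((hsub y hyr).mem_open U.isOpen
        (hall (O₂.ι y) ((mem_relAss_comp_iff g O₂.ι F hF y).1 hy) hyp))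

/-- Over an irreducible base, whether the associated points of a fibre lie in an open is generically
constant. -/
theorem exists_open_iff {X Y : Scheme.{u}} (f : X ⟶ Y) [IrreducibleSpace Y] [LocallyOfFiniteType f]
    [QuasiCompact f] (F : X.Modules) [Coh.IsQCoh F] (hF : CohB1.IsFT F) (U : X.Opens) :
    ∃ V : Y.Opens, (V : Set Y).Nonempty ∧ ∀ y ∈ V,
      ((∀ x ∈ MoreMor.relAss f F, f x = y → x ∈ U) ↔
        ∀ x ∈ MoreMor.relAss f F, f x = genericPoint Y → x ∈ U) := by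
  classical
  obtain ⟨V₀, hV₀, hηV₀, -⟩ := exists_isAffineOpen_mem_and_subset (x := genericPoint Y) (U := ⊤) trivial
  let p₀ := hV₀.primeIdealOf ⟨_, hηV₀⟩
  have hmin : ∀ q : PrimeSpectrum Γ(Y, V₀), p₀.asIdeal ≤ q.asIdeal := fun q =>
    (PrimeSpectrum.le_iff_specializes p₀ q).2 <| hV₀.fromSpec.isOpenEmbedding.isEmbedding.isInducing.specializes_iff.1
      (by rw [hV₀.fromSpec_primeIdealOf]; exact genericPoint_specializes _)
  let A := Γ(Y, V₀) ⧸ p₀.asIdeal
  let j : Spec (.of A) ⟶ Y := Spec.map (CommRingCat.ofHom (Ideal.Quotient.mk p₀.asIdeal)) ≫ hV₀.fromSpec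
  let η : Spec (.of A) := (⟨⊥, Ideal.isPrime_bot⟩ : PrimeSpectrum A)
  have hjη : j η = genericPoint Y := by
    show hV₀.fromSpec (Spec.map (CommRingCat.ofHom (Ideal.Quotient.mk p₀.asIdeal)) η) = _
    have : Spec.map (CommRingCat.ofHom (Ideal.Quotient.mk p₀.asIdeal)) η = p₀ := by
      refine PrimeSpectrum.ext ?_
      show Ideal.comap (Ideal.Quotient.mk p₀.asIdeal) ⊥ = p₀.asIdeal
      rw [← RingHom.ker_eq_comap_bot, Ideal.mk_ker]
    rw [this]
    exact hV₀.fromSpec_primeIdealOf ⟨_, hηV₀⟩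
  let g := pullback.snd f j
  let F' := (Scheme.Modules.pullback (pullback.fst f j)).obj F
  let U' := (pullback.fst f j) ⁻¹ᵁ U
  have : LocallyOfFiniteType g := MorphismProperty.pullback_snd _ _ inferInstance
  have : QuasiCompact g := MorphismProperty.pullback_snd _ _ inferInstance
  have : CompactSpace ↥(pullback f j) := QuasiCompact.compactSpace_of_compactSpace g
  have hF'q : Coh.IsQCoh F' := EGA43.InjFibre.isQCoh_pullback _ F
  have hF' : CohB1.IsFT F' := Coherent.isFT_pullback_qcoh _ inferInstance hF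
  have hbc : ∀ p, (∀ x ∈ MoreMor.relAss f F, f x = j p → x ∈ U) ↔
      ∀ x ∈ MoreMor.relAss g F', g x = p → x ∈ U' := fun p => by
    have := FlatMor12.RelAssBC.fibre_subset_iff f F hF U j g (pullback.fst f j)
      (IsPullback.of_hasPullback f j) p
    simpa only [Set.subset_def, Set.mem_ofPred_eq, SetLike.mem_coe, and_imp] using this
  obtain ⟨t, ht⟩ := isCompact_univ.elim_finite_subcover
    (fun W : {W : (pullback f j).Opens // IsAffineOpen W} => (W.1 : Set ↥(pullback f j)))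
    (fun W => W.1.isOpen) fun x _ => by
      obtain ⟨W, hW, hxW, -⟩ := exists_isAffineOpen_mem_and_subset (x := x) (U := ⊤) trivial
      exact Set.mem_iUnion.2 ⟨⟨W, hW⟩, hxW⟩
  have hlocal : ∀ W : {W : (pullback f j).Opens // IsAffineOpen W}, ∃ a : A, a ≠ 0 ∧
      ∀ p ∈ PrimeSpectrum.basicOpen a,
        ((∀ x ∈ MoreMor.relAss g F', g x = p → x ∈ W.1 → x ∈ U') ↔
          ∀ x ∈ MoreMor.relAss g F', g x = η → x ∈ W.1 → x ∈ U') := fun W => by
    have : IsAffine W.1.toScheme := W.2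
    have := EGA43.InjFibre.isQCoh_pullback W.1.ι F'
    obtain ⟨a, ha, h⟩ := exists_basicOpen_iff_of_isAffine (W.1.ι ≫ g) ((Scheme.Modules.pullback W.1.ι).obj F')
      (Coherent.isFT_pullback_qcoh _ inferInstance hF') (W.1.ι ⁻¹ᵁ U')
    have htr : ∀ p, (∀ x ∈ MoreMor.relAss (W.1.ι ≫ g) ((Scheme.Modules.pullback W.1.ι).obj F'),
        (W.1.ι ≫ g) x = p → x ∈ W.1.ι ⁻¹ᵁ U') ↔
        ∀ x ∈ MoreMor.relAss g F', g x = p → x ∈ W.1 → x ∈ U' := fun p =>
      ⟨fun h x hx hxp hxW => h ⟨x, hxW⟩ ((mem_relAss_comp_iff g W.1.ι F' hF' _).2 hx) hxp,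
        fun h x hx hxp => h _ ((mem_relAss_comp_iff g W.1.ι F' hF' x).1 hx) hxp x.2⟩
    exact ⟨a, ha, fun p hp => ((htr p).symm.trans (h p hp)).trans (htr η)⟩
  choose a ha hiff using hlocal
  obtain ⟨r, hr⟩ := Ideal.Quotient.mk_surjective (∏ W ∈ t, a W)
  refine ⟨Y.basicOpen r, ⟨genericPoint Y, ?_⟩, fun y hy => ?_⟩
  · have h : p₀ ∈ hV₀.fromSpec ⁻¹ᵁ Y.basicOpen r := by
      rw [hV₀.fromSpec_preimage_basicOpen]
      intro h
      exact (Finset.prod_ne_zero_iff.2 fun W _ => ha W) (hr ▸ Ideal.Quotient.eq_zero_iff_mem.2 h)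
    have h2 : hV₀.fromSpec p₀ ∈ Y.basicOpen r := h
    rw [show hV₀.fromSpec p₀ = genericPoint Y from hV₀.fromSpec_primeIdealOf ⟨_, hηV₀⟩] at h2
    exact h2
  · have hyV : y ∈ V₀ := Y.basicOpen_le r hy
    let q := hV₀.primeIdealOf ⟨y, hyV⟩
    have hyq : hV₀.fromSpec q = y := hV₀.fromSpec_primeIdealOf ⟨y, hyV⟩
    have hker : RingHom.ker (Ideal.Quotient.mk p₀.asIdeal) ≤ q.asIdeal := by rw [Ideal.mk_ker]; exact hmin q
    let p : Spec (.of A) := (⟨q.asIdeal.map (Ideal.Quotient.mk p₀.asIdeal),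
      Ideal.map_isPrime_of_surjective Ideal.Quotient.mk_surjective hker⟩ : PrimeSpectrum A)
    have hjp : j p = y := by
      show hV₀.fromSpec (Spec.map (CommRingCat.ofHom (Ideal.Quotient.mk p₀.asIdeal)) p) = _
      have : Spec.map (CommRingCat.ofHom (Ideal.Quotient.mk p₀.asIdeal)) p = q := by
        refine PrimeSpectrum.ext ?_
        show Ideal.comap (Ideal.Quotient.mk p₀.asIdeal) (Ideal.map _ q.asIdeal) = q.asIdeal
        rw [Ideal.comap_map_of_surjective' _ Ideal.Quotient.mk_surjective, sup_eq_left.2 hker]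
      rw [this, hyq]
    have hrq : r ∉ q.asIdeal := by
      have h : q ∈ hV₀.fromSpec ⁻¹ᵁ Y.basicOpen r := by
        show hV₀.fromSpec q ∈ Y.basicOpen r
        rw [hyq]; exact hy
      rw [hV₀.fromSpec_preimage_basicOpen] at h
      exact h
    have hpa : ∀ W ∈ t, p ∈ PrimeSpectrum.basicOpen (a W) := fun W hW hmem => hrq (by
      have h : Ideal.Quotient.mk p₀.asIdeal r ∈ q.asIdeal.map (Ideal.Quotient.mk p₀.asIdeal) := by
        rw [hr]; exact Ideal.prod_mem _ hW hmem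
      have h' := Ideal.mem_comap.2 h
      rwa [Ideal.comap_map_of_surjective' _ Ideal.Quotient.mk_surjective, sup_eq_left.2 hker] at h')
    rw [← hjp, hbc, ← hjη, hbc]
    constructor
    · intro h x hx hxp
      obtain ⟨W, hW, hxW⟩ := Set.mem_iUnion₂.1 (ht (Set.mem_univ x))
      exact (hiff W p (hpa W hW)).1 (fun z hz hzp _ => h z hz hzp) x hx hxp hxW
    · intro h x hx hxp
      obtain ⟨W, hW, hxW⟩ := Set.mem_iUnion₂.1 (ht (Set.mem_univ x))
      exact (hiff W p (hpa W hW)).2 (fun z hz hzp _ => h z hz hzp) x hx hxp hxW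

end Groth.Agent.FlatMorAssOpen
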