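import Groth.Agent.FlatMorAssOpen.ClosureFibre
import Groth.Agent.FlatMorAssOpen.GenericFP
import Groth.Agent.FlatMorDevissage.FlatTransfer

/-! Generic points of fibres of the closure of a relative associated point. -/

set_option autoImplicit false
set_option maxHeartbeats 800000
set_option backward.isDefEq.respectTransparency false

universe u

open CategoryTheory CategoryTheory.Limits AlgebraicGeometry TopologicalSpace
open Groth.Agent Groth.Agent.EGA43

namespace Groth.Agent.FlatMorAssOpen

theorem flat_away_of_free {A B M : Type u} [CommRing A] [CommRing B] [Algebra A B] [AddCommGroup M]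
    [Module B M] [Module A M] [IsScalarTower A B M] (a : A)
    (h : Module.Free (Localization.Away a) (LocalizedModule (Submonoid.powers a) M)) :
    Module.Flat A (LocalizedModule (Submonoid.powers (algebraMap A B a)) M) := by
  have : Module.Flat A (Localization.Away a) := IsLocalization.flat _ (Submonoid.powers a)
  have : Module.Flat A (LocalizedModule (Submonoid.powers a) M) := .trans A (Localization.Away a) _
  let φ := (LocalizedModule.mkLinearMap (Submonoid.powers (algebraMap A B a)) M).restrictScalars A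
  have h' : IsLocalizedModule (Submonoid.powers (algebraMap A B a))
      (LocalizedModule.mkLinearMap (Submonoid.powers (algebraMap A B a)) M) := inferInstance
  have : IsLocalizedModule (Submonoid.powers a) φ :=
    IsLocalizedModule.restrictScalars_powers (A := B) a (LocalizedModule.mkLinearMap (Submonoid.powers (algebraMap A B a)) M) (h := h')
  exact Module.Flat.of_linearEquiv (IsLocalizedModule.iso (Submonoid.powers a) φ).symm

/-- Near a relative associated point, generic points of fibres of its closure are relatively associated. -/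
theorem exists_open_genPts {X S : Scheme.{u}} (f : X ⟶ S) [LocallyOfFiniteType f]
    (F : X.Modules) [Coh.IsQCoh F] (hF : CohB1.IsFT F) (ξ : X) (hξ : ξ ∈ MoreMor.relAss f F) :
    ∃ O : X.Opens, ξ ∈ O ∧ ∀ x ∈ closure ({ξ} : Set X) ∩ (O : Set X),
      (∀ z ∈ closure ({ξ} : Set X) ∩ (O : Set X), f z = f x → z ⤳ x → z = x) → x ∈ MoreMor.relAss f F := by
  let Z : Closeds S := ⟨closure {f ξ}, isClosed_closure⟩
  let I := Scheme.IdealSheafData.vanishingIdeal Z
  let j := I.subschemeι
  have : IsReduced I.subscheme := Props12.isReduced_subscheme_vanishingIdeal Z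
  have hr : Set.range j = closure {f ξ} := by
    rw [Scheme.IdealSheafData.range_subschemeι, Scheme.IdealSheafData.coe_support_vanishingIdeal]
    rfl
  obtain ⟨η, hη⟩ : f ξ ∈ Set.range j := hr.ge (subset_closure rfl)
  have hgen : ∀ z, η ⤳ z := fun z => by
    rw [← j.isClosedEmbedding.isEmbedding.isInducing.specializes_iff, hη]
    exact specializes_iff_mem_closure.2 (hr.le ⟨z, rfl⟩)
  have : IrreducibleSpace I.subscheme := by
    have h : closure ({η} : Set I.subscheme) = Set.univ :=
      Set.eq_univ_of_forall fun z => (hgen z).mem_closure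
    have : PreirreducibleSpace I.subscheme := ⟨h ▸ isIrreducible_singleton.closure.isPreirreducible⟩
    exact { toPreirreducibleSpace := this, toNonempty := ⟨η⟩ }
  have : IsIntegral I.subscheme := isIntegral_of_irreducibleSpace_of_isReduced _
  let f' := pullback.snd f j
  let g' := pullback.fst f j
  have hc : IsPullback g' f' f j := IsPullback.of_hasPullback f j
  have : LocallyOfFiniteType f' := MorphismProperty.pullback_snd _ _ inferInstance
  let F' := (Scheme.Modules.pullback g').obj F
  have : Coh.IsQCoh F' := InjFibre.isQCoh_pullback _ F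
  have hF' : CohB1.IsFT F' := Coherent.isFT_pullback_qcoh _ inferInstance hF
  have hmem : ∀ w : X, f w ∈ closure {f ξ} → w ∈ Set.range g' := fun w hw => by
    rw [Scheme.Pullback.range_fst]
    exact hr.ge hw
  obtain ⟨ξ', hξ'⟩ := hmem ξ (subset_closure rfl)
  have hfξ : f' ξ' = η := j.isClosedEmbedding.injective (by
    rw [← Scheme.Hom.comp_apply, ← hc.w, Scheme.Hom.comp_apply, hξ', hη])
  obtain ⟨T, hT, hηT, -⟩ := exists_isAffineOpen_mem_and_subset (x := η) (U := ⊤) trivial
  obtain ⟨U, hU, hξU, e⟩ := exists_isAffineOpen_mem_and_subset (x := ξ') (U := f' ⁻¹ᵁ T)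
    (show f' ξ' ∈ T by rw [hfξ]; exact hηT)
  have e : U ≤ f' ⁻¹ᵁ T := e
  have : Nonempty T := ⟨⟨η, hηT⟩⟩
  have hdom : IsDomain Γ(I.subscheme, T) := inferInstance
  let _ := (f'.appLE T U e).hom.toAlgebra
  let _ := QcohFlat.overModule f' F' T U e
  have : IsScalarTower Γ(I.subscheme, T) Γ(↑(pullback f j), U) Γ(F', U) :=
    IsScalarTower.of_algebraMap_smul fun _ _ => rfl
  have : Algebra.FiniteType Γ(I.subscheme, T) Γ(↑(pullback f j), U) :=
    LocallyOfFiniteType.finiteType_appLE f' hT hU e
  have : Module.Finite Γ(↑(pullback f j), U) Γ(F', U) := H8Lim.finite_sections_of_isFT (M := F') hF' hU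
  obtain ⟨a, -, ha, hfree, -⟩ := CAlgH.GenericFreeModule.exists_dvd_good (R := Γ(I.subscheme, T))
    (S := Γ(↑(pullback f j), U)) (M := Γ(F', U)) 1 one_ne_zero
  have hflat := flat_away_of_free (B := Γ(↑(pullback f j), U)) (M := Γ(F', U)) a hfree
  let b := algebraMap Γ(I.subscheme, T) Γ(↑(pullback f j), U) a
  let W := (pullback f j).basicOpen b
  have hWflat : ∀ w ∈ W, FlatMod.IsFlatOverAt f' F' w := fun w hw => by
    refine (QcohFlat.isFlatOverAt_iff f' F' hT hU e ((pullback f j).basicOpen_le b hw)).2 ?_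
    refine (FlatMorDevissage.flat_away_iff b).1 hflat _ fun hb => ?_
    have h : hU.primeIdealOf ⟨w, (pullback f j).basicOpen_le b hw⟩ ∈ hU.fromSpec ⁻¹ᵁ W := by
      show hU.fromSpec (hU.primeIdealOf ⟨w, _⟩) ∈ W
      rw [hU.fromSpec_primeIdealOf]; exact hw
    rw [hU.fromSpec_preimage_basicOpen] at h
    exact h hb
  have hξW : ξ' ∈ W := by
    have hb : W = U ⊓ f' ⁻¹ᵁ I.subscheme.basicOpen a := by
      show (pullback f j).basicOpen ((f'.appLE T U e) a) = _
      rw [Scheme.Hom.appLE, CommRingCat.comp_apply, Scheme.basicOpen_res, ← Scheme.preimage_basicOpen]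
    rw [hb]
    refine ⟨hξU, ?_⟩
    show f' ξ' ∈ I.subscheme.basicOpen a
    rw [hfξ]
    obtain ⟨z, hz⟩ : ((I.subscheme.basicOpen a : I.subscheme.Opens) : Set I.subscheme).Nonempty := by
      by_contra hne
      exact ha ((basicOpen_eq_bot_iff a).1 (TopologicalSpace.Opens.ext (Set.not_nonempty_iff_eq_empty.1 hne)))
    exact (hgen z).mem_open (I.subscheme.basicOpen a).isOpen hz
  obtain ⟨O, hO, hOW⟩ := g'.isClosedEmbedding.isEmbedding.isInducing.isOpen_iff.1 W.isOpen
  refine ⟨⟨O, hO⟩, (show ξ ∈ O by rw [← hξ']; exact hOW.ge hξW), fun x hx hmax => ?_⟩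
  have hsp : ξ ⤳ x := specializes_iff_mem_closure.2 hx.1
  obtain ⟨x', hx'⟩ := hmem x (hsp.map f.continuous).mem_closure
  have hxW : x' ∈ W := hOW.le (show g' x' ∈ O by rw [hx']; exact hx.2)
  have hsp' : ξ' ⤳ x' := g'.isClosedEmbedding.isEmbedding.isInducing.specializes_iff.1
    (by rw [hξ', hx']; exact hsp)
  have htrd : ∀ w, DimLib.trdegHom (f'.residueFieldMap w).hom =
      DimLib.trdegHom (f.residueFieldMap (g' w)).hom :=
    fun w => trdegHom_residueFieldMap_of_isPullback f hc.w w
  have hd := trd_le_of_maximal f ξ x hx.1 fun z hz hzs hzx => hmax z ⟨hz, hzx.mem_open hO hx.2⟩ hzs hzx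
  have h := relAss_of_specializes_of_isIntegral f' F' hF' hsp' (hWflat x' hxW)
    ((mem_relAss_baseChange_iff f F hF hc ξ').2 (by rw [hξ']; exact hξ))
    (by rwa [htrd, htrd, hξ', hx'])
  rw [← hx']
  exact (mem_relAss_baseChange_iff f F hF hc x').1 h.1

end Groth.Agent.FlatMorAssOpen
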